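import Groth.Prelude.Def_RedSub
import Mathlib.LinearAlgebra.SymmetricAlgebra.Basis
import Mathlib.LinearAlgebra.TensorProduct.Basis
import Mathlib.RingTheory.MvPolynomial
import Mathlib.RingTheory.Finiteness.Basic
import Mathlib.AlgebraicGeometry.Pullbacks

/-!
# Schemes over an affine base with free rings of functions
-/

set_option autoImplicit false
set_option linter.style.haveILetI false
set_option backward.isDefEq.respectTransparency.types false

universe u

open CategoryTheory CategoryTheory.Limits MonoidalCategory CartesianMonoidalCategory AlgebraicGeometry TensorProduct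

noncomputable section

namespace Groth.L15.EssFree

variable {R : Type u} [CommRing R]

/-- The object is the spectrum of an algebra free as a module. -/
def IsFreeAff (X : Over (Spec (CommRingCat.of R))) : Prop :=
  ∃ (A : Type u) (_ : CommRing A) (_ : Algebra R A), Module.Free R A ∧
    Nonempty (X ≅ Over.mk (Spec.map (CommRingCat.ofHom (algebraMap R A))))

theorem IsFreeAff.of_iso {X Y : Over (Spec (CommRingCat.of R))} (h : IsFreeAff X) (e : Y ≅ X) : IsFreeAff Y := by
  obtain ⟨A, _, _, hA, ⟨f⟩⟩ := h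
  exact ⟨A, _, _, hA, ⟨e ≪≫ f⟩⟩

theorem isFreeAff_unit : IsFreeAff (𝟙_ (Over (Spec (CommRingCat.of R)))) :=
  ⟨R, inferInstance, inferInstance, inferInstance, ⟨Over.isoMk (Iso.refl _) (by
    show 𝟙 _ ≫ Spec.map (CommRingCat.ofHom (RingHom.id R)) = 𝟙 _
    rw [CommRingCat.ofHom_id, Spec.map_id, Category.id_comp])⟩⟩

theorem IsFreeAff.tensor {X Y : Over (Spec (CommRingCat.of R))} (hX : IsFreeAff X) (hY : IsFreeAff Y) :
    IsFreeAff (X ⊗ Y) := by
  obtain ⟨A, _, _, hA, ⟨f⟩⟩ := hX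
  obtain ⟨B, _, _, hB, ⟨g⟩⟩ := hY
  refine ⟨A ⊗[R] B, inferInstance, inferInstance, inferInstance, ⟨(f ⊗ᵢ g) ≪≫ Over.isoMk (pullbackSpecIso R A B) ?_⟩⟩
  show (pullbackSpecIso R A B).hom ≫ Spec.map (CommRingCat.ofHom (algebraMap R (A ⊗[R] B))) =
    pullback.fst _ _ ≫ Spec.map (CommRingCat.ofHom (algebraMap R A))
  rw [← pullbackSpecIso_hom_fst (R := R) (S := A) (T := B), Category.assoc, ← Spec.map_comp]
  rfl

theorem isFreeAff_pow {X : Over (Spec (CommRingCat.of R))} (hX : IsFreeAff X) :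
    ∀ n, IsFreeAff (RedSub.pow X n)
  | 0 => isFreeAff_unit
  | n + 1 => hX.tensor (isFreeAff_pow hX n)

/-- Base change of the spectrum of a free algebra. -/
theorem isFreeAff_bc {Z : Type u} [CommRing Z] (A : Type u) [CommRing A] [Algebra Z A] [Module.Free Z A]
    (X : Over (Spec (CommRingCat.of Z))) (eX : X ≅ Over.mk (Spec.map (CommRingCat.ofHom (algebraMap Z A))))
    (q : Spec (CommRingCat.of R) ⟶ Spec (CommRingCat.of Z)) : IsFreeAff (Red.bc q X) := by
  obtain ⟨φ, rfl⟩ := Spec.map_surjective q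
  letI : Algebra Z R := φ.hom.toAlgebra
  have e : (φ : CommRingCat.of Z ⟶ CommRingCat.of R) = CommRingCat.ofHom (algebraMap Z R) := rfl
  refine ⟨R ⊗[Z] A, inferInstance, inferInstance, inferInstance, ⟨(Over.pullback _).mapIso eX ≪≫
    Over.isoMk ((pullbackSymmetry _ _) ≪≫ pullbackSpecIso Z R A) ?_⟩⟩
  show ((pullbackSymmetry _ _).hom ≫ (pullbackSpecIso Z R A).hom) ≫ Spec.map (CommRingCat.ofHom
      (Algebra.TensorProduct.includeLeftRingHom (R := Z) (A := R) (B := A))) = pullback.snd _ _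
  rw [Category.assoc, pullbackSpecIso_hom_fst, pullbackSymmetry_hom_comp_fst]


theorem isFreeAff_Ga : IsFreeAff (Red.Ga (Spec (CommRingCat.of R))) := by
  haveI : Module.Free (ULift.{u} ℤ) (SymmetricAlgebra (ULift.{u} ℤ) (ULift.{u} ℤ)) :=
    Module.Free.of_equiv' inferInstance
      (SymmetricAlgebra.equivMvPolynomial (Module.Basis.singleton PUnit.{u + 1} (ULift.{u} ℤ))).symm.toLinearEquiv
  exact isFreeAff_bc (SymmetricAlgebra (ULift.{u} ℤ) (ULift.{u} ℤ)) _ (Iso.refl _) _

theorem isFreeAff_DS (M : Type) [AddCommGroup M] : IsFreeAff (Red.DS (Spec (CommRingCat.of R)) M) :=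
  isFreeAff_bc (MonoidAlgebra (ULift.{u} ℤ) (Multiplicative M)) _ (Iso.refl _) _

theorem IsFreeAff.isAffine {X : Over (Spec (CommRingCat.of R))} (h : IsFreeAff X) : IsAffine X.left := by
  obtain ⟨A, _, _, -, ⟨f⟩⟩ := h
  haveI : IsAffine ((Over.forget _).obj (Over.mk (Spec.map (CommRingCat.ofHom (algebraMap R A))))) :=
    inferInstanceAs (IsAffine (Spec (CommRingCat.of A)))
  exact IsAffine.of_isIso ((Over.forget _).mapIso f).hom

/-- The functions on such an object form a projective module over those of the base. -/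
theorem IsFreeAff.projective {X : Over (Spec (CommRingCat.of R))} (h : IsFreeAff X) {Y : Scheme.{u}}
    (e : Y ≅ X.left) (p : Y ⟶ Spec (CommRingCat.of R)) (he : e.hom ≫ X.hom = p) :
    letI := p.appTop.hom.toAlgebra
    Module.Projective Γ(Spec (CommRingCat.of R), ⊤) Γ(Y, ⊤) := by
  obtain ⟨A, _, _, hA, ⟨f⟩⟩ := h
  letI := p.appTop.hom.toAlgebra
  let Λ : CommRingCat.of A ≅ Γ(Y, ⊤) :=
    (Scheme.ΓSpecIso (CommRingCat.of A)).symm ≪≫
      Scheme.Γ.mapIso (e ≪≫ (Over.forget _).mapIso f).op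
  let ρ : CommRingCat.of R ≅ Γ(Spec (CommRingCat.of R), ⊤) := (Scheme.ΓSpecIso (CommRingCat.of R)).symm
  have hp : (e.hom ≫ f.hom.left) ≫ Spec.map (CommRingCat.ofHom (algebraMap R A)) = p := by
    rw [Category.assoc, ← he]
    exact congrArg (e.hom ≫ ·) (Over.w f.hom)
  have hcomp : ρ.hom ≫ p.appTop = CommRingCat.ofHom (algebraMap R A) ≫ Λ.hom := by
    rw [← hp, Scheme.Hom.comp_appTop, ← Category.assoc,
      show ρ.hom ≫ (Spec.map (CommRingCat.ofHom (algebraMap R A))).appTop =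
        CommRingCat.ofHom (algebraMap R A) ≫ (Scheme.ΓSpecIso (CommRingCat.of A)).inv from
        (Scheme.ΓSpecIso_inv_naturality _).symm, Category.assoc]
    rfl
  obtain ⟨b⟩ := hA.exists_basis
  let r : R ≃+* Γ(Spec (CommRingCat.of R), ⊤) := ρ.commRingCatIsoToRingEquiv
  let ε : A ≃+* Γ(Y, ⊤) := Λ.commRingCatIsoToRingEquiv
  haveI : RingHomInvPair (r : R →+* Γ(Spec (CommRingCat.of R), ⊤)) (r.symm : _ →+* R) := RingHomInvPair.of_ringEquiv r
  haveI : RingHomInvPair (r.symm : Γ(Spec (CommRingCat.of R), ⊤) →+* R) (r : R →+* _) := RingHomInvPair.of_ringEquiv_symm r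
  let L : A ≃ₛₗ[(r : R →+* Γ(Spec (CommRingCat.of R), ⊤))] Γ(Y, ⊤) :=
    { ε.toAddEquiv with
      map_smul' := fun c a => by
        show ε (c • a) = r c • ε a
        rw [Algebra.smul_def, Algebra.smul_def, map_mul]
        congr 1
        exact congrArg (fun φ : CommRingCat.of R ⟶ Γ(Y, ⊤) => φ c) hcomp.symm }
  haveI : Module.Free R A := hA
  haveI : Module.Free Γ(Spec (CommRingCat.of R), ⊤) Γ(Y, ⊤) := Module.Free.of_equiv L
  infer_instance

end Groth.L15.EssFree
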