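import Groth.Agent.L15.EssFree.FreeAff
import Groth.Agent.L14.Splitting.Compare
import Groth.Agent.L14.Splitting.Etale
import Groth.Agent.L14.Chev.Cell.SimpleCoverGlobal
import Groth.Agent.L14.Chev.Cell.Open
import Groth.Agent.L14.AlmostSimple.Torus
import Groth.Agent.L25.GaPts
import Groth.Prelude.Def_SGA3x

/-!
# Reductive groups are essentially free
-/

set_option autoImplicit false
set_option linter.style.haveILetI false
set_option linter.unusedSectionVars false
set_option backward.isDefEq.respectTransparency.types false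

universe u

open CategoryTheory CategoryTheory.Limits MonoidalCategory CartesianMonoidalCategory MonObj AlgebraicGeometry
open TopologicalSpace

noncomputable section

namespace Groth.L15.EssFree

/-- A split reductive group over an affine base is covered by affine opens with projective rings. -/
theorem exists_projective_nhd {R : Type u} [CommRing R] {G : Over (Spec (CommRingCat.of R))} [GrpObj G]
    (D : Red.SplitRed G) (p : G.left) :
    ∃ V : G.left.Opens, p ∈ V ∧ IsAffineOpen V ∧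
      (letI := (V.ι ≫ G.hom).appTop.hom.toAlgebra
       Module.Projective Γ(Spec (CommRingCat.of R), ⊤) Γ(↑V, ⊤)) := by
  haveI : Nonempty ↥(Spec (CommRingCat.of R)) := ⟨G.hom p⟩
  haveI : Finite D.idx := Finite.of_fintype _
  obtain ⟨b⟩ := Groth.L14.AlmostSimple.exists_base D
  have henum : ∀ A : Set D.idx, ∃ (n : ℕ) (e : Fin n → D.idx), RedSub.Enumerates A e := fun A => by
    obtain ⟨n, ⟨σ⟩⟩ := Finite.exists_equiv_fin A
    exact ⟨n, fun j => (σ.symm j).1, Subtype.val_injective.comp σ.symm.injective, by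
      ext a
      constructor
      · rintro ⟨j, rfl⟩; exact (σ.symm j).2
      · exact fun ha => ⟨σ ⟨a, ha⟩, by simp⟩⟩
  obtain ⟨n, eneg, hneg⟩ := henum (RedSub.negRoots D.P b)
  obtain ⟨m, epos, hpos⟩ := henum (RedSub.posRoots D.P b)
  let x : D.idx → (𝟙_ (Over (Spec (CommRingCat.of R))) ⟶ Red.Ga (Spec (CommRingCat.of R))) :=
    fun _ => Groth.L25.GaPts.ptOfElt 1
  obtain ⟨w, -, hp⟩ := Groth.L14.Chev.Cell.exists_translate_simple (D := D) hneg hpos x
    (fun a _ => by rw [Groth.L25.GaPts.gaFn_ptOfElt]; exact isUnit_one) p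
  let X : Over (Spec (CommRingCat.of R)) :=
    RedSub.pow (Red.Ga (Spec (CommRingCat.of R))) n ⊗ (D.T ⊗ RedSub.pow (Red.Ga (Spec (CommRingCat.of R))) m)
  let c : X ⟶ G := RedSub.cellMap D eneg epos
  let f : X ⟶ G := (toUnit _ ≫ w) * c
  haveI : IsOpenImmersion c.left := Groth.L14.Chev.Cell.isOpenImmersion_cellMap hneg hpos
  have hw : ∀ v : 𝟙_ (Over (Spec (CommRingCat.of R))) ⟶ G,
      ((toUnit G ≫ v) * 𝟙 G) ≫ ((toUnit G ≫ v⁻¹) * 𝟙 G) = 𝟙 G := fun v => by
    rw [comp_mul, ← Category.assoc, comp_toUnit, Category.comp_id, GrpObj.comp_inv, inv_mul_cancel_left]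
  let τ : G ≅ G := ⟨(toUnit G ≫ w) * 𝟙 G, (toUnit G ≫ w⁻¹) * 𝟙 G, hw w, by
    have := hw w⁻¹
    rwa [_root_.inv_inv] at this⟩
  have hf : f = c ≫ τ.hom := by
    simp only [f, τ, comp_mul, comp_toUnit_assoc, Category.comp_id]
  haveI : IsOpenImmersion f.left := by
    haveI : IsIso τ.hom.left := ((Over.forget _).mapIso τ).isIso_hom
    rw [hf, Over.comp_left]
    infer_instance
  have hT : IsFreeAff D.T := (isFreeAff_DS D.M).of_iso ((Grp.forget _).mapIso D.split)
  have hX : IsFreeAff X := (isFreeAff_pow isFreeAff_Ga n).tensor (hT.tensor (isFreeAff_pow isFreeAff_Ga m))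
  haveI := hX.isAffine
  refine ⟨f.left.opensRange, hp, isAffineOpen_opensRange f.left, ?_⟩
  refine hX.projective f.left.isoOpensRange.symm _ ?_
  rw [← Over.w f, ← Category.assoc]
  exact congrArg (· ≫ G.hom) (Scheme.Hom.isoOpensRange_inv_comp f.left)

/-- Etale-locally a reductive group is covered by affine opens with projective rings. -/
theorem isEssentiallyFree_of_reductive {S : Scheme.{u}} (G : Over S) [GrpObj G] (hG : Red.IsReductive G) :
    SGA3x.IsEssentiallyFree G.hom := by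
  intro s
  obtain ⟨V, f, hf, ⟨v, hv⟩, -, T, _, i, r, hi, ⟨R⟩⟩ := Groth.L14.Splitting.exists_rootData_etale' hG s
  haveI := hf
  obtain ⟨W, hW, hsW, -⟩ := exists_isAffineOpen_mem_and_subset (X := S) (x := s) (U := ⊤) trivial
  obtain ⟨V₀, hV₀, hvV₀, e⟩ := exists_isAffineOpen_mem_and_subset (X := V) (x := v) (U := f ⁻¹ᵁ W)
    (show f v ∈ W from hv.symm ▸ hsW)
  replace e : V₀ ≤ f ⁻¹ᵁ W := e
  let I : S.Opens := ⟨f '' V₀, f.isOpenMap _ V₀.2⟩
  obtain ⟨h, hhI, hsh⟩ := hW.exists_basicOpen_le (V := I) ⟨s, ⟨v, hvV₀, hv⟩⟩ hsW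
  let U := S.basicOpen h
  let V₁ : V.Opens := V.basicOpen (f.appLE W V₀ e h)
  have hV₁ : IsAffineOpen V₁ := hV₀.basicOpen _
  have hV₁eq : V₁ = V₀ ⊓ f ⁻¹ᵁ U := by
    simp only [V₁, U, Scheme.preimage_basicOpen, Scheme.Hom.appLE, CommRingCat.comp_apply, Scheme.basicOpen_res]
  let k : Spec Γ(V, V₁) ⟶ V := hV₁.fromSpec
  let d : Spec Γ(V, V₁) ⟶ S := k ≫ f
  haveI : IsOpenImmersion k := hV₁.isOpenImmersion_fromSpec
  have hk : Set.range k = (V₁ : Set V) := hV₁.range_fromSpec
  have hrange : Set.range d ⊆ Set.range U.ι := by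
    rw [U.range_ι]
    rintro _ ⟨z, rfl⟩
    have hz : k z ∈ V₁ := by
      show k z ∈ (V₁ : Set V)
      rw [← hk]
      exact ⟨z, rfl⟩
    exact (hV₁eq.le hz).2
  let g : Spec Γ(V, V₁) ⟶ U.toScheme := IsOpenImmersion.lift U.ι d hrange
  have hgd : g ≫ U.ι = d := IsOpenImmersion.lift_fac _ _ _
  haveI : Etale (g ≫ U.ι) := by rw [hgd]; infer_instance
  haveI : Etale g := Etale.of_comp g U.ι
  obtain ⟨D, -⟩ := Groth.L14.Splitting.exists_splitRed_comp f k (d := g ≫ U.ι) hgd.symm hG R hi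
  refine ⟨U, hsh, hW.basicOpen h, Spec Γ(V, V₁), inferInstance, g, inferInstance, ⟨fun z => ?_⟩, ?_⟩
  · obtain ⟨y, hy, hyz⟩ := hhI z.2
    obtain ⟨y', hy'⟩ : y ∈ Set.range k := by
      rw [hk]
      exact hV₁eq.ge ⟨hy, show f y ∈ U from hyz.symm ▸ z.2⟩
    refine ⟨y', U.ι.isOpenEmbedding.injective ?_⟩
    have h1 := congrArg (fun φ : Spec Γ(V, V₁) ⟶ S => φ y') hgd
    exact h1.trans ((Scheme.Hom.comp_apply k f y').trans ((congrArg f hy').trans hyz))
  · intro x
    exact exists_projective_nhd D x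

end Groth.L15.EssFree
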